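import Groth.Agent.SmoothFree.Main
import Groth.Agent.DevExist.BaseChange

/-! Smooth algebras with geometrically irreducible fibres. -/

set_option autoImplicit false
set_option backward.isDefEq.respectTransparency false
set_option backward.isDefEq.respectTransparency.types false
attribute [-instance] CategoryTheory.catToReflQuiver

universe u

open TensorProduct AlgebraicGeometry CategoryTheory CategoryTheory.Limits

namespace Groth.Agent.SmoothFree

variable {R B : Type u} [CommRing R] [CommRing B] [Algebra R B] [Algebra.Smooth R B]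

theorem isDomain_tensor_field (h : FlatCA.GeomIrredFibres R B) (K : Type u) [Field K] [Algebra R K] :
    IsDomain (K ⊗[R] B) := by
  haveI : GeometricallyIrreducible (Spec.map (CommRingCat.ofHom (algebraMap K (K ⊗[R] B)))) :=
    DevExist.geomIrred_baseChange h
  exact FlatDevPad.isDomain_of_smooth_geomIrred K (K ⊗[R] B)

theorem geomIntegral_of_smooth (h : FlatCA.GeomIrredFibres R B) : FlatCA.GeomIntegralFibres R B := by
  refine ⟨fun K _ y Z fst snd hsq => ?_⟩
  obtain ⟨φ, rfl⟩ := Spec.map_surjective y
  letI : Algebra R K := φ.hom.toAlgebra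
  haveI := isDomain_tensor_field h K
  haveI : IsDomain (B ⊗[R] K) := (Algebra.TensorProduct.comm R B K).toRingEquiv.toMulEquiv.isDomain _
  haveI : AlgebraicGeometry.IsIntegral (Spec (CommRingCat.of (B ⊗[R] K))) :=
    (affine_isIntegral_iff (CommRingCat.of (B ⊗[R] K))).2 inferInstance
  let e : Z ≅ Spec (CommRingCat.of (B ⊗[R] K)) := hsq.isoPullback ≪≫ pullbackSpecIso R B K
  haveI : Nonempty Z := ⟨e.inv.base (Nonempty.some inferInstance)⟩
  exact isIntegral_of_isOpenImmersion e.hom

theorem free_of_geomIrred [IsLocalRing R] (h : FlatCA.GeomIrredFibres R B) : Module.Free R B :=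
  free_of_smooth R B fun K _ _ => isDomain_tensor_field h K

end Groth.Agent.SmoothFree
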