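import Groth.Agent.SmoothFree.Fibre
import Groth.Agent.RGLib.PureLocal
import Groth.Agent.CAlgUI.Countable
import Groth.Agent.CAlgUI.Local
import Groth.Agent.CAlgUI.BaseChange
import Groth.Agent.S1198
import Groth.Agent.LC.CanonComplete
import Groth.Agent.FlatDevPad.Alg
import Groth.Agent.SrcDescent.FlatModelAlg

/-! Smooth algebras over local rings with integral geometric fibres are free modules. -/

set_option autoImplicit false
set_option backward.isDefEq.respectTransparency false
set_option backward.isDefEq.respectTransparency.types false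
attribute [-instance] CategoryTheory.catToReflQuiver

universe u

open TensorProduct IsLocalRing

namespace Groth.Agent.SmoothFree

/-- A base change of a flat algebra over a complete local ring with prime extended primes is Mittag-Leffler. -/
theorem ml_baseChange_of_complete (R₁ B₁ R'' : Type u) [CommRing R₁] [IsLocalRing R₁] [IsNoetherianRing R₁]
    [IsAdicComplete (maximalIdeal R₁) R₁] [CommRing B₁] [Algebra R₁ B₁] [Algebra.FiniteType R₁ B₁]
    [Module.Flat R₁ B₁] [CommRing R''] [Algebra R₁ R'']
    (hm : (maximalIdeal R₁).map (algebraMap R₁ B₁) ≠ ⊤)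
    (hp : ∀ (P : Ideal R'') [P.IsPrime], ((P.comap (algebraMap R₁ R'')).map (algebraMap R₁ B₁)).IsPrime) :
    CAlg.IsMittagLeffler R'' (R'' ⊗[R₁] B₁) := by
  haveI : IsNoetherianRing B₁ := Algebra.FiniteType.isNoetherianRing R₁ B₁
  haveI : Algebra.FinitePresentation R₁ B₁ := Algebra.FinitePresentation.of_finiteType.1 ‹_›
  let m := maximalIdeal R₁
  letI : Field (R₁ ⧸ m) := Ideal.Quotient.field m
  haveI : Module.Projective (R₁ ⧸ m) (B₁ ⧸ (m • ⊤ : Submodule R₁ B₁)) := inferInstance
  obtain ⟨hflat, hML⟩ := Groth.Agent.S1198.result R₁ m B₁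
  haveI := hflat
  let j : B₁ →ₗ[R₁] AdicCompletion m B₁ := AdicCompletion.of m B₁
  let u := j.baseChange R''
  let B'' := R'' ⊗[R₁] B₁
  -- injectivity in the fibres
  have hj : ∀ (P : Ideal R'') [P.IsPrime],
      Function.Injective (j.lTensor (P.comap (algebraMap R₁ R'')).ResidueField) := by
    intro P _
    let p := P.comap (algebraMap R₁ R'')
    refine lTensor_residueField_injective p j fun x hx => ?_
    haveI := hp P
    let pB := p.map (algebraMap R₁ B₁)
    rw [Ideal.smul_top_eq_map, Submodule.restrictScalars_mem]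
    let D := B₁ ⧸ pB
    have hne : (m.map (algebraMap R₁ B₁)).map (Ideal.Quotient.mk pB) ≠ ⊤ := fun h => hm (by
      have h' := congrArg (Ideal.comap (Ideal.Quotient.mk pB)) h
      rw [Ideal.comap_top, Ideal.comap_map_of_surjective _ Ideal.Quotient.mk_surjective, sup_eq_left.2 ?_] at h'
      · exact h'
      · rw [← RingHom.ker_eq_comap_bot, Ideal.mk_ker]
        exact Ideal.map_mono (IsLocalRing.le_maximalIdeal (Ideal.IsPrime.ne_top inferInstance)))
    have hall : ∀ n : ℕ, x ∈ (p • ⊤ : Submodule R₁ B₁) ⊔ m ^ n • ⊤ := fun n => by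
      have h := Submodule.mem_map_of_mem (f := AdicCompletion.eval m B₁ n) hx
      rw [Submodule.map_smul'', Submodule.map_top, AdicCompletion.range_eval] at h
      have h' : Submodule.mkQ (m ^ n • ⊤ : Submodule R₁ B₁) x ∈
          (p • ⊤ : Submodule R₁ B₁).map (Submodule.mkQ (m ^ n • ⊤ : Submodule R₁ B₁)) := by
        rw [Submodule.map_smul'', Submodule.map_top, Submodule.range_mkQ]
        exact h
      have h'' := Submodule.mem_comap.2 h'
      rwa [Submodule.comap_map_mkQ, sup_comm] at h''
    have hbot : Ideal.Quotient.mk pB x ∈ ⨅ n : ℕ, ((m.map (algebraMap R₁ B₁)).map (Ideal.Quotient.mk pB)) ^ n := by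
      refine Submodule.mem_iInf _ |>.2 fun n => ?_
      have h := hall n
      rw [Ideal.smul_top_eq_map, Ideal.smul_top_eq_map, Submodule.mem_sup] at h
      obtain ⟨a, ha, b, hb, rfl⟩ := h
      rw [Submodule.restrictScalars_mem] at ha hb
      rw [map_add, Ideal.Quotient.eq_zero_iff_mem.2 ha, zero_add, ← Ideal.map_pow, ← Ideal.map_pow]
      exact Ideal.mem_map_of_mem _ hb
    rw [Ideal.iInf_pow_eq_bot_of_isDomain _ hne] at hbot
    exact Ideal.Quotient.eq_zero_iff_mem.1 hbot
  have hfib : ∀ (P : Ideal R'') [P.IsPrime], Function.Injective (u.lTensor P.ResidueField) := by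
    intro P _
    let p := P.comap (algebraMap R₁ R'')
    let K := P.ResidueField
    let φ : p.ResidueField →ₐ[R₁] K := Ideal.ResidueField.mapₐ p P (Algebra.ofId R₁ R'') rfl
    letI : Algebra p.ResidueField K := φ.toRingHom.toAlgebra
    haveI : IsScalarTower R₁ p.ResidueField K := IsScalarTower.of_algebraMap_eq fun r => (φ.commutes r).symm
    have hK := lTensor_injective_of_residueField p j (hj P) K
    let eM := TensorProduct.AlgebraTensorModule.cancelBaseChange R₁ R'' K K B₁
    let eN := TensorProduct.AlgebraTensorModule.cancelBaseChange R₁ R'' K K (AdicCompletion m B₁)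
    have he : ∀ z, eN (u.lTensor K z) = j.lTensor K (eM z) := fun z => by
      induction z using TensorProduct.induction_on with
      | zero => simp
      | add x y hx hy => simp only [map_add, hx, hy]
      | tmul a b =>
        induction b using TensorProduct.induction_on with
        | zero => simp
        | add x y hx hy => simp only [TensorProduct.tmul_add, map_add, hx, hy]
        | tmul c x => simp [eM, eN, u]
    intro x y hxy
    exact eM.injective (hK (by rw [← he, ← he, hxy]))
  -- universal injectivity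
  let e : Localization (⊥ : Submonoid B'') ≃ₐ[B''] B'' :=
    (IsLocalization.atUnits B'' (⊥ : Submonoid B'') bot_le).symm
  let u' : Localization (⊥ : Submonoid B'') →ₗ[R''] R'' ⊗[R₁] AdicCompletion m B₁ :=
    u ∘ₗ (e.toLinearMap.restrictScalars R'')
  haveI : Module.Flat R'' (Localization (⊥ : Submonoid B'')) :=
    Module.Flat.of_linearEquiv (e.toLinearEquiv.restrictScalars R'')
  have hu' := Groth.Agent.RGLib.lTensor_injective_of_fibres (B := B'') (⊥ : Submonoid B'') u' fun P _ => by
    rw [show u' = u ∘ₗ (e.toLinearEquiv.restrictScalars R'').toLinearMap from rfl, LinearMap.lTensor_comp]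
    exact (hfib P).comp ((e.toLinearEquiv.restrictScalars R'').lTensor P.ResidueField).injective
  refine Groth.Agent.CAlgUI.ml_of_ui u (fun Q _ _ => ?_) (Groth.Agent.CAlgUI.ml_baseChange hML)
  rw [← LinearMap.lTensor_inj_iff_rTensor_inj]
  intro x y hxy
  obtain ⟨x, rfl⟩ := ((e.toLinearEquiv.restrictScalars R'').lTensor Q).surjective x
  obtain ⟨y, rfl⟩ := ((e.toLinearEquiv.restrictScalars R'').lTensor Q).surjective y
  have h := hu' Q (a₁ := x) (a₂ := y) (by
    rw [show u' = u ∘ₗ (e.toLinearEquiv.restrictScalars R'').toLinearMap from rfl, LinearMap.lTensor_comp]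
    exact hxy)
  rw [h]

theorem ml_of_model (R B : Type u) [CommRing R] [CommRing B] [Algebra R B]
    (hdom : ∀ (K : Type u) [Field K] [Algebra R K], IsDomain (K ⊗[R] B))
    (A₀ B₀ : Type u) [CommRing A₀] [CommRing B₀] [Algebra A₀ R] [Algebra A₀ B₀] [Algebra.FiniteType A₀ B₀]
    [Module.Flat A₀ B₀]
    (eB : B ≃ₐ[R] R ⊗[A₀] B₀)
    (R₁ : Type u) [CommRing R₁] [IsLocalRing R₁] [IsNoetherianRing R₁] [IsAdicComplete (maximalIdeal R₁) R₁]
    [Algebra A₀ R₁]
    (R'' : Type u) [CommRing R''] [Algebra R R''] [Algebra R₁ R''] [Algebra A₀ R''] [IsScalarTower A₀ R R'']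
    [IsScalarTower A₀ R₁ R''] [Module.FaithfullyFlat R R'']
    (hmax : ∃ P : Ideal R'', P.IsPrime ∧ P.comap (algebraMap R₁ R'') = maximalIdeal R₁) :
    CAlg.IsMittagLeffler R B := by
  let B₁ := R₁ ⊗[A₀] B₀
  have hp : ∀ (P : Ideal R'') [P.IsPrime], ((P.comap (algebraMap R₁ R'')).map (algebraMap R₁ B₁)).IsPrime := by
    intro P _
    let p := P.comap (algebraMap R₁ R'')
    let K := P.ResidueField
    let φ : p.ResidueField →ₐ[R₁] K := Ideal.ResidueField.mapₐ p P (Algebra.ofId R₁ R'') rfl
    letI : Algebra p.ResidueField K := φ.toRingHom.toAlgebra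
    haveI : IsScalarTower R₁ p.ResidueField K := IsScalarTower.of_algebraMap_eq fun r => (φ.commutes r).symm
    haveI := hdom K
    let e : K ⊗[R₁] B₁ ≃ₐ[K] K ⊗[R] B :=
      (Algebra.TensorProduct.cancelBaseChange A₀ R₁ K K B₀).trans
        ((Algebra.TensorProduct.congr AlgEquiv.refl eB).trans
          (Algebra.TensorProduct.cancelBaseChange A₀ R K K B₀)).symm
    haveI : IsDomain (K ⊗[R₁] B₁) := e.toRingEquiv.toMulEquiv.isDomain _
    let ψ : p.Fiber B₁ →ₐ[R₁] K ⊗[R₁] B₁ :=
      Algebra.TensorProduct.map (IsScalarTower.toAlgHom R₁ p.ResidueField K) (AlgHom.id R₁ B₁)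
    haveI : IsDomain (p.Fiber B₁) := Function.Injective.isDomain ψ.toRingHom
      (Module.Flat.rTensor_preserves_injective_linearMap (M := B₁)
        (IsScalarTower.toAlgHom R₁ p.ResidueField K).toLinearMap (algebraMap p.ResidueField K).injective)
    rw [← FlatDevPad.ker_toFiber]
    exact RingHom.ker_isPrime _
  have hm : (maximalIdeal R₁).map (algebraMap R₁ B₁) ≠ ⊤ := by
    obtain ⟨P, hP, hPm⟩ := hmax
    haveI := hP
    rw [← hPm]
    exact (hp P).ne_top
  have hML := ml_baseChange_of_complete R₁ B₁ R'' hm hp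
  let e₂ : R'' ⊗[R₁] B₁ ≃ₗ[R''] R'' ⊗[R] B :=
    (TensorProduct.AlgebraTensorModule.cancelBaseChange A₀ R₁ R'' R'' B₀).trans
      ((TensorProduct.AlgebraTensorModule.congr (LinearEquiv.refl R'' R'') eB.toLinearEquiv).trans
        (TensorProduct.AlgebraTensorModule.cancelBaseChange A₀ R R'' R'' B₀)).symm
  have hML' : CAlg.IsMittagLeffler R'' (R'' ⊗[R] B) := Groth.Agent.CAlgUI.ml_of_ui e₂.symm.toLinearMap
    (fun Q _ _ => (e₂.symm.rTensor Q).injective) hML
  exact Groth.Agent.CAlgUI.ml_of_faithfullyFlat hML'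

set_option maxHeartbeats 1600000 in
theorem free_of_model (R B : Type u) [CommRing R] [IsLocalRing R] [CommRing B] [Algebra R B]
    [Algebra.FiniteType R B] [Module.Flat R B]
    (hdom : ∀ (K : Type u) [Field K] [Algebra R K], IsDomain (K ⊗[R] B))
    (A₀ B₀ : Type u) [CommRing A₀] [IsNoetherianRing A₀] [CommRing B₀] [Algebra A₀ R] [Algebra A₀ B₀]
    [Algebra.FiniteType A₀ B₀] [Module.Flat A₀ B₀]
    (eB : B ≃ₐ[R] R ⊗[A₀] B₀) : Module.Free R B := by
  let m₀ := (maximalIdeal R).comap (algebraMap A₀ R)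
  haveI : m₀.IsPrime := Ideal.IsPrime.comap _
  let A' := Localization.AtPrime m₀
  haveI : IsNoetherianRing A' := IsLocalization.isNoetherianRing m₀.primeCompl A' inferInstance
  have hu : ∀ y : m₀.primeCompl, IsUnit (algebraMap A₀ R y) := fun y => IsLocalRing.notMem_maximalIdeal.1 y.2
  letI : Algebra A' R := (IsLocalization.lift (S := A') hu).toAlgebra
  haveI : IsScalarTower A₀ A' R := IsScalarTower.of_algebraMap_eq fun x => (IsLocalization.lift_eq hu x).symm
  haveI : IsLocalHom (algebraMap A' R) := ⟨fun x hx => by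
    obtain ⟨a, s, rfl⟩ := IsLocalization.exists_mk'_eq m₀.primeCompl x
    rw [RingHom.algebraMap_toAlgebra, IsLocalization.lift_mk'] at hx
    refine (IsLocalization.AtPrime.isUnit_mk'_iff A' m₀ a s).2 fun ha => ?_
    exact (IsLocalRing.notMem_maximalIdeal.2 (isUnit_of_mul_isUnit_left hx)) ha⟩
  let R₁ := AdicCompletion (maximalIdeal A') A'
  haveI : IsNoetherianRing R₁ := Groth.Agent.LC.Canon.isNoetherianRing_completion
  haveI : Module.FaithfullyFlat A' R₁ := Groth.Agent.LC.Canon.faithfullyFlat_completion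
  letI : Algebra R₁ (R ⊗[A'] R₁) := Algebra.TensorProduct.rightAlgebra
  haveI : IsScalarTower A' R₁ (R ⊗[A'] R₁) := Algebra.TensorProduct.right_isScalarTower
  haveI : IsScalarTower A₀ R₁ (R ⊗[A'] R₁) := IsScalarTower.of_algebraMap_eq fun a =>
    (IsScalarTower.algebraMap_apply A₀ A' (R ⊗[A'] R₁) a).trans
      ((IsScalarTower.algebraMap_apply A' R₁ (R ⊗[A'] R₁) _).trans
        (congrArg (algebraMap R₁ (R ⊗[A'] R₁)) (IsScalarTower.algebraMap_apply A₀ A' R₁ a).symm))
  haveI : Module.FaithfullyFlat R (R ⊗[A'] R₁) := inferInstance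
  have hmax : ∃ P : Ideal (R ⊗[A'] R₁), P.IsPrime ∧
      P.comap (algebraMap R₁ (R ⊗[A'] R₁)) = maximalIdeal R₁ := by
    let K := ResidueField R
    letI : Field (A' ⧸ maximalIdeal A') := Ideal.Quotient.field _
    let θ₀ : A' ⧸ maximalIdeal A' →+* K := Ideal.Quotient.lift _ ((residue R).comp (algebraMap A' R)) fun a ha => by
      rw [RingHom.comp_apply, IsLocalRing.residue_eq_zero_iff]
      exact map_nonunit (algebraMap A' R) a ha
    let θ : R₁ →ₐ[A'] K :=
      { θ₀.comp (AdicCompletion.evalOneₐ (maximalIdeal A')).toRingHom with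
        commutes' := fun a => by
          show θ₀ (AdicCompletion.evalOneₐ (maximalIdeal A') (algebraMap A' R₁ a)) = residue R (algebraMap A' R a)
          rw [AlgHom.commutes]
          rfl }
    let Φ : R ⊗[A'] R₁ →ₐ[A'] K := Algebra.TensorProduct.productMap (IsScalarTower.toAlgHom A' R K) θ
    refine ⟨RingHom.ker Φ.toRingHom, RingHom.ker_isPrime _, ?_⟩
    have h : (RingHom.ker Φ.toRingHom).comap (algebraMap R₁ (R ⊗[A'] R₁)) = RingHom.ker θ.toRingHom := by
      rw [RingHom.comap_ker]
      congr 1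
      refine RingHom.ext fun x => ?_
      show Φ ((1 : R) ⊗ₜ[A'] x) = θ x
      exact Algebra.TensorProduct.productMap_right_apply _ _ x
    rw [h]
    refine IsLocalRing.eq_maximalIdeal ?_
    have hθ : RingHom.ker θ.toRingHom = RingHom.ker (AdicCompletion.evalOneₐ (maximalIdeal A')).toRingHom :=
      RingHom.ker_comp_of_injective _ θ₀.injective
    rw [hθ]
    exact RingHom.ker_isMaximal_of_surjective _ (AdicCompletion.evalOneₐ_surjective _)
  have hMLB := ml_of_model R B hdom A₀ B₀ eB R₁ (R ⊗[A'] R₁) hmax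
  have hcount : CAlg.IsCountablyGenerated R B := by
    obtain ⟨k, f, hf⟩ := Algebra.FiniteType.iff_quotient_mvPolynomial''.1 (inferInstance : Algebra.FiniteType R B)
    refine ⟨f '' Set.range fun d : Fin k →₀ ℕ => MvPolynomial.monomial d (1 : R), (Set.countable_range _).image _, ?_⟩
    show Submodule.span R (f.toLinearMap '' _) = ⊤
    rw [Submodule.span_image, show Submodule.span R (Set.range fun d : Fin k →₀ ℕ => MvPolynomial.monomial d (1 : R)) = ⊤
      from (MvPolynomial.basisMonomials (Fin k) R).span_eq, Submodule.map_top, LinearMap.range_eq_top]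
    exact hf
  haveI : Module.Projective R B := Groth.Agent.CAlgUI.projective_of_flat_ml_countablyGenerated hMLB hcount
  exact Groth.Agent.CAlgUI.free_of_countablyGenerated hcount

/-- A flat finitely presented algebra over a local ring all whose geometric fibres are integral is a free module. -/
theorem free_of_flat (R B : Type u) [CommRing R] [IsLocalRing R] [CommRing B] [Algebra R B]
    [Algebra.FinitePresentation R B] [Module.Flat R B]
    (hdom : ∀ (K : Type u) [Field K] [Algebra R K], IsDomain (K ⊗[R] B)) : Module.Free R B := by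
  obtain ⟨A₀, B₀, _, _, hA₀, hB₀, hB₀fp, ⟨eB⟩⟩ := Groth.Agent.SrcDescent.exists_flat_model R B
  haveI := hB₀; haveI := hB₀fp
  haveI : Algebra.FiniteType ℤ A₀ := (Subalgebra.fg_iff_finiteType A₀).1 hA₀
  haveI : IsNoetherianRing A₀ := Algebra.FiniteType.isNoetherianRing ℤ A₀
  exact free_of_model R B hdom A₀ B₀ eB

/-- A smooth algebra over a local ring all whose geometric fibres are integral is a free module. -/
theorem free_of_smooth (R B : Type u) [CommRing R] [IsLocalRing R] [CommRing B] [Algebra R B] [Algebra.Smooth R B]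
    (hdom : ∀ (K : Type u) [Field K] [Algebra R K], IsDomain (K ⊗[R] B)) : Module.Free R B :=
  free_of_flat R B hdom

end Groth.Agent.SmoothFree
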