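import Mathlib.RingTheory.LocalRing.ResidueField.Ideal
import Mathlib.RingTheory.Localization.BaseChange
import Mathlib.LinearAlgebra.TensorProduct.Quotient
import Mathlib.RingTheory.Flat.Basic
import Mathlib.LinearAlgebra.Basis.VectorSpace
import Mathlib.RingTheory.AdicCompletion.Basic

/-! Fibres of linear maps at primes. -/

set_option autoImplicit false

universe u

open TensorProduct

namespace Groth.Agent.SmoothFree

variable {A : Type u} [CommRing A] (p : Ideal A) [p.IsPrime] {M : Type u} [AddCommGroup M] [Module A M]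

theorem exists_smul_mem_of_one_tmul_eq_zero (m : M) (h : (1 : p.ResidueField) ⊗ₜ[A] m = 0) :
    ∃ s ∉ p, s • m ∈ (p • ⊤ : Submodule A M) := by
  haveI := (isLocalizedModule_iff_isBaseChange (nonZeroDivisors (A ⧸ p)) p.ResidueField
    (TensorProduct.mk (A ⧸ p) p.ResidueField ((A ⧸ p) ⊗[A] M) 1)).2
    (TensorProduct.isBaseChange (A ⧸ p) ((A ⧸ p) ⊗[A] M) p.ResidueField)
  let e := TensorProduct.AlgebraTensorModule.cancelBaseChange A (A ⧸ p) p.ResidueField p.ResidueField M
  have h1 : TensorProduct.mk (A ⧸ p) p.ResidueField ((A ⧸ p) ⊗[A] M) 1 ((1 : A ⧸ p) ⊗ₜ[A] m) = 0 := by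
    refine e.injective ?_
    rw [map_zero]
    simpa [e] using h
  obtain ⟨⟨t, ht⟩, hts⟩ := (IsLocalizedModule.eq_zero_iff (nonZeroDivisors (A ⧸ p)) _).1 h1
  obtain ⟨s, rfl⟩ := Ideal.Quotient.mk_surjective t
  refine ⟨s, fun hs => nonZeroDivisors.ne_zero ht (Ideal.Quotient.eq_zero_iff_mem.2 hs), ?_⟩
  rw [← Submodule.Quotient.mk_eq_zero, ← TensorProduct.quotTensorEquivQuotSMul_mk_tmul]
  have hts : Ideal.Quotient.mk p s • ((1 : A ⧸ p) ⊗ₜ[A] m) = 0 := hts
  rw [show Ideal.Quotient.mk p s ⊗ₜ[A] m = 0 by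
    rw [← hts, TensorProduct.smul_tmul', smul_eq_mul, mul_one], map_zero]

theorem one_tmul_eq_zero_of_mem {m : M} (h : m ∈ (p • ⊤ : Submodule A M)) :
    (1 : p.ResidueField) ⊗ₜ[A] m = 0 := by
  refine Submodule.smul_induction_on h (fun r hr x _ => ?_) fun x y hx hy => ?_
  · rw [TensorProduct.tmul_smul, TensorProduct.smul_tmul', ← Algebra.algebraMap_eq_smul_one,
      Ideal.algebraMap_residueField_eq_zero.2 hr, TensorProduct.zero_tmul]
  · rw [TensorProduct.tmul_add, hx, hy, add_zero]

theorem exists_smul_eq_one_tmul (z : p.ResidueField ⊗[A] M) : ∃ s ∉ p, ∃ m : M, s • z = (1 : p.ResidueField) ⊗ₜ[A] m := by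
  induction z using TensorProduct.induction_on with
  | zero => exact ⟨1, fun h => Ideal.IsPrime.ne_top ‹_› ((Ideal.eq_top_iff_one _).2 h), 0, by
      rw [smul_zero, TensorProduct.tmul_zero]⟩
  | tmul c m =>
    obtain ⟨a, b, hb, rfl⟩ := IsFractionRing.div_surjective (A := A ⧸ p) c
    obtain ⟨a, rfl⟩ := Ideal.Quotient.mk_surjective a
    obtain ⟨b, rfl⟩ := Ideal.Quotient.mk_surjective b
    have hb0 : algebraMap (A ⧸ p) p.ResidueField (Ideal.Quotient.mk p b) ≠ 0 :=
      IsLocalization.to_map_ne_zero_of_mem_nonZeroDivisors _ le_rfl hb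
    refine ⟨b, fun h => nonZeroDivisors.ne_zero hb (Ideal.Quotient.eq_zero_iff_mem.2 h), a • m, ?_⟩
    rw [TensorProduct.tmul_smul, TensorProduct.smul_tmul', TensorProduct.smul_tmul']
    congr 1
    rw [← Ideal.Quotient.algebraMap_eq, ← IsScalarTower.algebraMap_apply, ← IsScalarTower.algebraMap_apply,
      Algebra.smul_def, Algebra.smul_def, mul_one]
    rw [← Ideal.Quotient.algebraMap_eq, ← IsScalarTower.algebraMap_apply] at hb0
    exact mul_div_cancel₀ _ hb0
  | add x y hx hy =>
    obtain ⟨s, hs, m, hm⟩ := hx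
    obtain ⟨t, ht, n, hn⟩ := hy
    refine ⟨s * t, fun h => (Ideal.IsPrime.mem_or_mem ‹_› h).elim hs ht, t • m + s • n, ?_⟩
    rw [smul_add, TensorProduct.tmul_add, TensorProduct.tmul_smul, TensorProduct.tmul_smul, ← hm, ← hn,
      smul_smul, smul_smul, mul_comm s t]

theorem lTensor_residueField_injective {N : Type u} [AddCommGroup N] [Module A N] (j : M →ₗ[A] N)
    (h : ∀ m : M, j m ∈ (p • ⊤ : Submodule A N) → m ∈ (p • ⊤ : Submodule A M)) :
    Function.Injective (j.lTensor p.ResidueField) := by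
  rw [injective_iff_map_eq_zero]
  intro z hz
  obtain ⟨s, hs, m, hm⟩ := exists_smul_eq_one_tmul p z
  have h1 : (1 : p.ResidueField) ⊗ₜ[A] j m = 0 := by
    rw [← LinearMap.lTensor_tmul, ← hm, map_smul, hz, smul_zero]
  obtain ⟨t, ht, htm⟩ := exists_smul_mem_of_one_tmul_eq_zero p (j m) h1
  have h2 := one_tmul_eq_zero_of_mem p (h (t • m) (by rwa [map_smul]))
  rw [TensorProduct.tmul_smul, ← hm, ← mul_smul] at h2
  have hu : IsUnit (algebraMap A p.ResidueField (t * s)) :=
    isUnit_iff_ne_zero.2 fun h0 => (Ideal.IsPrime.mem_or_mem ‹_› (Ideal.algebraMap_residueField_eq_zero.1 h0)).elim ht hs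
  rw [← algebraMap_smul p.ResidueField] at h2
  exact hu.smul_eq_zero.1 h2

/-- Injectivity on a fibre passes to field extensions. -/
theorem lTensor_injective_of_residueField {N : Type u} [AddCommGroup N] [Module A N] (j : M →ₗ[A] N)
    (h : Function.Injective (j.lTensor p.ResidueField)) (K : Type u) [Field K] [Algebra A K]
    [Algebra p.ResidueField K] [IsScalarTower A p.ResidueField K] : Function.Injective (j.lTensor K) := by
  let eM := TensorProduct.AlgebraTensorModule.cancelBaseChange A p.ResidueField K K M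
  let eN := TensorProduct.AlgebraTensorModule.cancelBaseChange A p.ResidueField K K N
  have hb : Function.Injective ((j.baseChange p.ResidueField).lTensor K) :=
    Module.Flat.lTensor_preserves_injective_linearMap (j.baseChange p.ResidueField)
      (by rw [LinearMap.baseChange_eq_ltensor]; exact h)
  have he : ∀ z, j.lTensor K (eM z) = eN ((j.baseChange p.ResidueField).lTensor K z) := fun z => by
    induction z using TensorProduct.induction_on with
    | zero => simp
    | add x y hx hy => simp only [map_add, hx, hy]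
    | tmul a b =>
      induction b using TensorProduct.induction_on with
      | zero => simp
      | add x y hx hy => simp only [TensorProduct.tmul_add, map_add, hx, hy]
      | tmul c m => simp [eM, eN]
  intro x y hxy
  obtain ⟨x, rfl⟩ := eM.surjective x
  obtain ⟨y, rfl⟩ := eM.surjective y
  rw [he, he] at hxy
  exact congrArg eM (hb (eN.injective hxy))

end Groth.Agent.SmoothFree
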